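import Cfsg.Agent.OD.Pre
import Cfsg.Agent.H6.Net
set_option autoImplicit false
set_option maxRecDepth 100000
set_option Elab.async false
set_option linter.all false
namespace CfH6.L8A
open CfH6 MulAction
noncomputable def k0 : ℕ := (nat_lit 0x56877386aedf05a056877386aedf05a0)
noncomputable def k1 : ℕ := (nat_lit 0x4f0ea7804e0ea78c909af70c909ad50)
noncomputable def k2 : ℕ := (nat_lit 0x4c4c4c4ca48aa48229002900cac0cac0)
noncomputable def k3 : ℕ := (nat_lit 0x24245a5a444472444242e8e88686a8a8)
noncomputable def k4 : ℕ := (nat_lit 0x404430ee66cc58ee20d8d0f0d2cc00c0)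
noncomputable def k5 : ℕ := (nat_lit 0x80c00ac0aac484a0a800066ccc4ac00)
noncomputable def k6 : ℕ := (nat_lit 0x10454440514045114100001441501055)
noncomputable def k7 : ℕ := (nat_lit 0x7bf3fd7270d79cc87bd1f47230079800)
noncomputable def k8 : ℕ := (nat_lit 0x4ebd84f84e8d84d8255a0b32255a0b32)
noncomputable def k9 : ℕ := (nat_lit 0xbd4ebd440e8d0e8c18f218f25219ccb6)
noncomputable def k10 : ℕ := (nat_lit 0xc2ca7474ac420000951488889e906b60)
noncomputable def k11 : ℕ := (nat_lit 0x848898e6900888660064228880aad088)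
noncomputable def k12 : ℕ := (nat_lit 0xc0c0ac08268c0c00040a04c4aa6840c)
noncomputable def k13 : ℕ := (nat_lit 0x1504401444401041404451504111454)
noncomputable def k14 : ℕ := (nat_lit 0x27f6faa1db4a8ae027f6faa1db0a8aa0)
noncomputable def k15 : ℕ := (nat_lit 0xfbd68124fbd681248719bfb88708be18)
noncomputable def k16 : ℕ := (nat_lit 0x9dac98ac436a436af7a5b38469aa69aa)
noncomputable def k17 : ℕ := (nat_lit 0x4848415e40401c1cc8eeda948c84f060)
noncomputable def k18 : ℕ := (nat_lit 0xa0f0a65444f03090f4a45078aa226600)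
noncomputable def k19 : ℕ := (nat_lit 0x4e464c8a08800ccca04088c4c80c8cc)
noncomputable def k20 : ℕ := (nat_lit 0x141401410004555101001405015050)
noncomputable def k21 : ℕ := (nat_lit 0x4451d476797a0bc84451d476797a0bc8)
noncomputable def k22 : ℕ := (nat_lit 0xa40f3a31a04e3830a1595dee215858ea)
noncomputable def k23 : ℕ := (nat_lit 0x344f344ac019c0180f0c0f0cde562652)
noncomputable def k24 : ℕ := (nat_lit 0xf8e88c8cc69244207662ccc400040604)
noncomputable def k25 : ℕ := (nat_lit 0x2000e8c010408c2ca054a88cb4c8cc)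
noncomputable def k26 : ℕ := (nat_lit 0xa0008aa440ccaac828040a4a806620ca)
noncomputable def k27 : ℕ := (nat_lit 0x44400110010041504400440115141401)
noncomputable def k28 : ℕ := (nat_lit 0x5ffeb36ef1f60ac05fdab12ed1860040)
noncomputable def k29 : ℕ := (nat_lit 0x8da955088da157089c9b52909c9b5090)
noncomputable def k30 : ℕ := (nat_lit 0xc18cc10ca081e1860f420f42a448a448)
noncomputable def k31 : ℕ := (nat_lit 0x40405454414007069926d8d83030a0a0)
noncomputable def k32 : ℕ := (nat_lit 0x44500470a24004009296ccb4ccec1088)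
noncomputable def k33 : ℕ := (nat_lit 0x4008ac4e0a0e04c08e48c0484c0480ac)
noncomputable def k34 : ℕ := (nat_lit 0x5001514141401540410505505400010)
noncomputable def k35 : ℕ := (nat_lit 0x4d2fcba7bb848d224d2bc9a6bb848c22)
noncomputable def k36 : ℕ := (nat_lit 0xccd2b138ccd2b13852d92fc040d924c8)
noncomputable def k37 : ℕ := (nat_lit 0x70fe70fe65d021c065cf07c86af36744)
noncomputable def k38 : ℕ := (nat_lit 0x52520f0eb8b06464f978e2c8bc723aac)
noncomputable def k39 : ℕ := (nat_lit 0x30e60088e870548c40202002ca083880)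
noncomputable def k40 : ℕ := (nat_lit 0x400cc04aaaa8c0080408ac400ca6cc)
noncomputable def k41 : ℕ := (nat_lit 0x44014055014440011100401045441151)
noncomputable def k42 : ℕ := (nat_lit 0x80000000000000008000000000000000)
noncomputable def k43 : ℕ := (nat_lit 0xf06de9f8f0696ca4fa316800fa1c6000)
noncomputable def k44 : ℕ := (nat_lit 0xebd12b96e608630a7881708098009802)
noncomputable def k45 : ℕ := (nat_lit 0x4cd4acc88b0c131444ae4354c6c2dcdc)
noncomputable def k46 : ℕ := (nat_lit 0x6210c8608c8000a86092daae0c181c00)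
noncomputable def k47 : ℕ := (nat_lit 0x244220842a840aeaa2400480ac84020a)
noncomputable def k48 : ℕ := (nat_lit 0x40011041410004414441504111004104)
noncomputable def k49 : ℕ := (nat_lit 0x6ac04240215240006a62469000204)
noncomputable def k50 : ℕ := (nat_lit 0x768c64f876b82de4179ff85217e77782)
noncomputable def k51 : ℕ := (nat_lit 0x14b062bc134a1240b59ab3d087f4a7d4)
noncomputable def k52 : ℕ := (nat_lit 0x3000a1820e04c9c420249982a5e8a0a0)
noncomputable def k53 : ℕ := (nat_lit 0xe4aa447ecc888a74deb264ceb6884c)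
noncomputable def k54 : ℕ := (nat_lit 0xac00c0c408a0aea800644a40cea80aa)
noncomputable def k55 : ℕ := (nat_lit 0x4505111500401145101104401140014)
noncomputable def k56 : ℕ := (nat_lit 0x660e0b91663e6c10903c0d60845a04ac)
noncomputable def k57 : ℕ := (nat_lit 0x4216042c681e602eb27cb47413e80cc4)
noncomputable def k58 : ℕ := (nat_lit 0x2c2cebb0ea5238308080eaf4f4a0a292)
noncomputable def k59 : ℕ := (nat_lit 0x8864e23c9a2ab8900888d88264e8bae4)
noncomputable def k60 : ℕ := (nat_lit 0x2a40ceec80ea2400082ac62084c00ca0)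
noncomputable def k61 : ℕ := (nat_lit 0x44001415011411000544441004500140)
noncomputable def k62 : ℕ := (nat_lit 0x80000000000000008000000000000000)
noncomputable def k63 : ℕ := (nat_lit 0x6280b515628475067e914f087ba44710)
noncomputable def k64 : ℕ := (nat_lit 0x75a4b720a3d8229874903080fb02fd00)
noncomputable def k65 : ℕ := (nat_lit 0x363006e6040e5018216418146c4a0000)
noncomputable def k66 : ℕ := (nat_lit 0xcecc64aa7458487464ea146e6a5632c0)
noncomputable def k67 : ℕ := (nat_lit 0xc4a200ac0ac0a460a64a640e868eaa0)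
noncomputable def k68 : ℕ := (nat_lit 0x1014051001001040410415040114114)
noncomputable def k69 : ℕ := (nat_lit 0x40000002200800004000000220080)
noncomputable def k70 : ℕ := (nat_lit 0x68220000682200048d5320848d53208)
noncomputable def k71 : ℕ := (nat_lit 0xad80a900cc8c8c8472507250676a6642)
noncomputable def k72 : ℕ := (nat_lit 0x2820303014145150080804004c0c3c3c)
noncomputable def k73 : ℕ := (nat_lit 0x2200204488448864a810aacc22c400e0)
noncomputable def k74 : ℕ := (nat_lit 0x800a404084c00840a48a00aa0a40ac28)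
noncomputable def k75 : ℕ := (nat_lit 0x1140005000050001004501411011544)
end CfH6.L8A
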