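import Cfsg.Agent.OD.Pre
import Cfsg.Agent.H6.Top2
import Cfsg.Agent.H6.L8A.D0
set_option autoImplicit false
set_option maxRecDepth 100000
set_option Elab.async false
set_option linter.all false
namespace CfH6.L8A
open CfH6 MulAction
noncomputable def n0_0 : Net := mkNet (nat_lit 128) [(nat_lit 64, k0), (nat_lit 32, k1), (nat_lit 16, k2), (nat_lit 8, k3), (nat_lit 4, k4), (nat_lit 2, k5)] [(k6, nat_lit 1)]
noncomputable def n0_1 : Net := mkNet (nat_lit 128) [(nat_lit 64, k7), (nat_lit 32, k8), (nat_lit 16, k9), (nat_lit 8, k10), (nat_lit 4, k11), (nat_lit 2, k12)] [(k13, nat_lit 1)]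
noncomputable def n0_2 : Net := mkNet (nat_lit 128) [(nat_lit 64, k14), (nat_lit 32, k15), (nat_lit 16, k16), (nat_lit 8, k17), (nat_lit 4, k18), (nat_lit 2, k19)] [(k20, nat_lit 1)]
noncomputable def n0_3 : Net := mkNet (nat_lit 128) [(nat_lit 64, k21), (nat_lit 32, k22), (nat_lit 16, k23), (nat_lit 8, k24), (nat_lit 4, k25), (nat_lit 2, k26)] [(k27, nat_lit 1)]
noncomputable def n0_4 : Net := mkNet (nat_lit 128) [(nat_lit 64, k28), (nat_lit 32, k29), (nat_lit 16, k30), (nat_lit 8, k31), (nat_lit 4, k32), (nat_lit 2, k33)] [(k34, nat_lit 1)]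
noncomputable def n0_5 : Net := mkNet (nat_lit 128) [(nat_lit 64, k35), (nat_lit 32, k36), (nat_lit 16, k37), (nat_lit 8, k38), (nat_lit 4, k39), (nat_lit 2, k40)] [(k41, nat_lit 1)]
noncomputable def n1_0 : Net := mkNet (nat_lit 128) [(nat_lit 64, k42), (nat_lit 32, k43), (nat_lit 16, k44), (nat_lit 8, k45), (nat_lit 4, k46), (nat_lit 2, k47)] [(k48, nat_lit 1)]
noncomputable def n1_1 : Net := mkNet (nat_lit 128) [(nat_lit 64, k49), (nat_lit 32, k50), (nat_lit 16, k51), (nat_lit 8, k52), (nat_lit 4, k53), (nat_lit 2, k54)] [(k55, nat_lit 1)]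
noncomputable def n1_2 : Net := mkNet (nat_lit 128) [(nat_lit 64, (nat_lit 0x400202600000008400080040)), (nat_lit 32, k56), (nat_lit 16, k57), (nat_lit 8, k58), (nat_lit 4, k59), (nat_lit 2, k60)] [(k61, nat_lit 1)]
noncomputable def n1_3 : Net := mkNet (nat_lit 128) [(nat_lit 64, k62), (nat_lit 32, k63), (nat_lit 16, k64), (nat_lit 8, k65), (nat_lit 4, k66), (nat_lit 2, k67)] [(k68, nat_lit 1)]
noncomputable def n1_4 : Net := mkNet (nat_lit 128) [(nat_lit 64, k69), (nat_lit 32, k70), (nat_lit 16, k71), (nat_lit 8, k72), (nat_lit 4, k73), (nat_lit 2, k74)] [(k75, nat_lit 1)]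
noncomputable def n2_0 : Net := mkNet (nat_lit 48) [(nat_lit 24, (nat_lit 0x85cae289caee)), (nat_lit 12, (nat_lit 0x193984e2e984)), (nat_lit 6, (nat_lit 0xd90da4610602)), (nat_lit 3, (nat_lit 0xd12f3483e616))] [((nat_lit 0x9249040200), nat_lit 1), ((nat_lit 0x82402490010), nat_lit 1), ((nat_lit 0x1200048008), nat_lit 1)]
noncomputable def n2_1 : Net := mkNet (nat_lit 48) [(nat_lit 24, (nat_lit 0x449330449330)), (nat_lit 12, (nat_lit 0x1c41c44dee78)), (nat_lit 6, (nat_lit 0xc208a2040b0e)), (nat_lit 3, (nat_lit 0x48801cc20312))] [((nat_lit 0x40241008008), nat_lit 1), ((nat_lit 0x482012482092), nat_lit 1), ((nat_lit 0x40008200000), nat_lit 1)]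
noncomputable def n2_2 : Net := mkNet (nat_lit 48) [(nat_lit 24, (nat_lit 0x870cfa851eae)), (nat_lit 12, (nat_lit 0x8300e0d14a54)), (nat_lit 6, (nat_lit 0x450364be0a2c)), (nat_lit 3, (nat_lit 0x40051a220db6))] [((nat_lit 0x1041000), nat_lit 1), ((nat_lit 0x490492090), nat_lit 1), ((nat_lit 0x40201048), nat_lit 1)]
noncomputable def n3_0 : Net := mkNet (nat_lit 10) [(nat_lit 5, (nat_lit 0x284))] [((nat_lit 0x4), nat_lit 1), ((nat_lit 0x40), nat_lit 1)]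
noncomputable def n3_1 : Net := mkNet (nat_lit 10) [(nat_lit 5, (nat_lit 0x314))] [((nat_lit 0x148), nat_lit 1), ((nat_lit 0x80), nat_lit 1)]
noncomputable def n4_0 : Net := mkNet (nat_lit 6) [(nat_lit 3, (nat_lit 0))] [((nat_lit 0x8), nat_lit 1)]
noncomputable def nets0 : List Net := [n0_0, n0_1, n0_2, n0_3, n0_4, n0_5]
noncomputable def nets1 : List Net := [n1_0, n1_1, n1_2, n1_3, n1_4]
def ws1 : List (List ℕ) := [[4, 3, 1, 2, 3, 4, 1, 2, 3, 2, 1, 0, 1, 3, 2, 4, 1, 3, 2, 4, 0, 1, 2, 3, 2, 1, 4, 3, 2, 1, 3, 4],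
  [3, 2, 3, 4, 1, 2, 3, 2, 1, 0, 1, 3, 2, 4, 1, 3, 2, 4, 0, 1, 2, 3, 2, 1, 4, 3, 2, 3],
  [1, 3, 2, 4, 1, 3, 2, 4],
  [4, 3, 2, 4, 1, 3, 2, 4, 1, 4],
  [4, 3, 1, 2, 3, 4, 1, 2, 3, 2, 1, 0, 1, 3, 2, 4, 1, 3, 2, 4, 0, 1, 2, 3, 2, 1, 4, 3, 2, 1, 3, 4, 2, 3, 2, 3, 1, 2, 3, 4, 5, 0, 4, 2, 3, 1, 4, 2, 3, 1, 0, 5, 4, 3, 2, 1, 3, 2, 3, 2, 4, 3, 1, 2, 3, 4, 1, 2, 3, 2, 1, 0, 1, 3, 2, 4, 1, 3, 2, 4, 1, 3, 2, 4, 1, 3, 2, 4, 0, 1, 2, 3, 2, 1, 4, 3, 2, 1, 3, 4, 2, 3, 2, 3, 1, 2, 3, 4, 5, 0, 4, 2, 3, 1, 4, 2, 3, 1, 0, 5, 4, 3, 2, 1, 3, 2, 3, 2, 4, 3, 1, 2, 3, 4, 1, 2, 3, 2, 1, 0, 1, 3, 2, 4, 1, 3, 2, 4, 0, 1, 2, 3, 2, 1, 4, 3, 2, 1, 3, 4]]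
noncomputable def nets2 : List Net := [n2_0, n2_1, n2_2]
def ws2 : List (List ℕ) := [[1, 2, 3, 3, 2, 2, 3, 1],
  [1, 1, 1, 4],
  [3]]
noncomputable def nets3 : List Net := [n3_0, n3_1]
def ws3 : List (List ℕ) := [[0, 1, 2, 0, 0, 2],
  [2, 2, 2, 1, 2, 1]]
noncomputable def nets4 : List Net := [n4_0]
def ws4 : List (List ℕ) := [[0, 1, 0, 1, 1, 0]]
def sig : List (List ℕ) := [[0],
  [1],
  [2],
  [3],
  [4],
  [5]]
def eqs0 : List (List ℕ × List ℕ) := [([0, 0], []),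
  ([1, 1], []),
  ([2, 2], []),
  ([3, 3], []),
  ([4, 4], []),
  ([5, 5], []),
  ([0, 1, 0], [1, 0, 1]),
  ([0, 2], [2, 0]),
  ([0, 3], [3, 0]),
  ([0, 4], [4, 0]),
  ([0, 5], [5, 0]),
  ([1, 2, 1], [2, 1, 2]),
  ([1, 3], [3, 1]),
  ([1, 4], [4, 1]),
  ([1, 5], [5, 1]),
  ([2, 3, 2, 3, 2, 3, 2, 3], [3, 2, 3, 2, 3, 2, 3, 2]),
  ([2, 4], [4, 2]),
  ([2, 5], [5, 2]),
  ([3, 4, 3], [4, 3, 4]),
  ([3, 5], [5, 3]),
  ([4, 5, 4], [5, 4, 5]),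
  ([0, 5, 3, 2, 3], [2, 3, 2, 3, 2])]
def eqs : List (List ℕ × List ℕ) := eqs0
def lU : List (ℕ × ℕ) := [(0, 44), (48, 70)]
noncomputable def U : ℕ := ivls lU
def l1 : List (ℕ × ℕ) := [(1, 4), (6, 38), (48, 7)]
noncomputable def S1 : ℕ := ivls l1
def w1 : List ℕ := [0]
def l2 : List (ℕ × ℕ) := [(55, 8)]
noncomputable def S2 : ℕ := ivls l2
def w2 : List ℕ := [5]
def l3 : List (ℕ × ℕ) := [(5, 1), (63, 55)]
noncomputable def S3 : ℕ := ivls l3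
def w3 : List ℕ := [1, 0]
noncomputable def J : List (List ℕ × ℕ × ℕ) := [(w1, 1, S1), (w2, 55, S2), (w3, 5, S3)]
end CfH6.L8A
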